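import Cfsg.Agent.R2.Spec.X1.TI.Sit
import Cfsg.Agent.H378.ExcNear

/-!
# S3478, rows `E₇(u)` and `E₈(u)` (helper528)

A group `E₇(u)` or `E₈(u)` does not have the element orders of `³D₄(q)` (`Cfsg.Agent.R2.Spec.X1.TI.Sit`).
-/

set_option autoImplicit false
set_option linter.unusedSectionVars false

namespace Cfsg.Agent.R2.Spec.X1.TRf.E78

open Cfsg Cfsg.Lie
open Cfsg.Agent.R2.Spec.X1.TD Cfsg.Agent.R2.Spec.X1.TI Cfsg.Agent.H129 Cfsg.Agent.H129.CycT Cfsg.Agent.H378.CycTab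
open Cfsg.Agent.H378.SmallTor Cfsg.Agent.H378.AdjTab

universe u

/-! ### arithmetic -/

theorem mm_mono {q c : ℕ} (hc : 2 < c) (h : c ≤ q) : mm c ≤ mm q := by
  have h1 := mm_eq hc
  have h2 := mm_eq (show 2 < q by omega)
  have h3 : c ^ 2 ≤ q ^ 2 := Nat.pow_le_pow_left h 2
  rw [h1, h2]
  have := Nat.mul_le_mul h3 (Nat.sub_le_sub_right h3 1)
  omega

theorem ne_1093 {q : ℕ} (hq : 2 < q) : mm q ≠ 1093 := by
  intro h
  rcases Nat.lt_or_ge q 6 with h6 | h6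
  · interval_cases q <;> revert h <;> decide
  · have := mm_mono (by norm_num) h6
    rw [h] at this
    revert this
    decide

theorem ne_757 {q : ℕ} (hq : 2 < q) : mm q ≠ 757 := by
  intro h
  rcases Nat.lt_or_ge q 6 with h6 | h6
  · interval_cases q <;> revert h <;> decide
  · have := mm_mono (by norm_num) h6
    rw [h] at this
    revert this
    decide

theorem ne_331 {q : ℕ} (hq : 2 < q) : mm q ≠ 331 := by
  intro h
  rcases Nat.lt_or_ge q 6 with h6 | h6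
  · interval_cases q <;> revert h <;> decide
  · have := mm_mono (by norm_num) h6
    rw [h] at this
    revert this
    decide

theorem ne_8401 {q : ℕ} (hq : 2 < q) : mm q ≠ 8401 := by
  intro h
  rcases Nat.lt_or_ge q 11 with h6 | h6
  · interval_cases q <;> revert h <;> decide
  · have := mm_mono (by norm_num) h6
    rw [h] at this
    revert this
    decide

theorem eq_three {q : ℕ} (hq : 2 < q) (h : mm q = 73) : q = 3 := by
  rcases Nat.lt_or_ge q 4 with h6 | h6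
  · omega
  · have := mm_mono (by norm_num) h6
    rw [h] at this
    exact absurd this (by decide)

/-- two coprime large members of `Om` -/
theorem two_large {p q : ℕ} (h : Par p q) {a b : ℕ} (ha : Om p q a) (hb : Om p q b) (h1 : 5 * mm q ≤ 7 * a)
    (h2 : 5 * mm q ≤ 7 * b) (ha' : a ≠ mm q) (hb' : b ≠ mm q) (hco : Nat.Coprime a b) : False := by
  have hq := h.hq
  have d1 : q + 1 ∣ q ^ 3 + 1 := ⟨q ^ 2 - q + 1, by
    have hle : q ≤ q ^ 2 := Nat.le_self_pow two_ne_zero q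
    zify [hle]
    ring⟩
  have d2 : q - 1 ∣ q ^ 3 - 1 := by simpa using Nat.sub_dvd_pow_sub_pow q 1 3
  have key : ∀ c : ℕ, Om p q c → 5 * mm q ≤ 7 * c → c ≠ mm q →
      (q + 1 ∣ c ∧ (q - 1 ∣ c ∨ q ∣ c)) ∨ (q - 1 ∣ c ∧ q ∣ c) := by
    intro c hc h5 hne
    rcases Om.large h hc h5 with h6 | h6 | h6 | h6 | h6
    · exact absurd h6 hne
    · rw [h6]; exact Or.inl ⟨Dvd.intro_left _ rfl, Or.inl (Dvd.dvd.mul_right d2 _)⟩
    · rw [h6]; exact Or.inl ⟨Dvd.dvd.mul_right d1 _, Or.inl (Dvd.intro_left _ rfl)⟩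
    · rw [h6]; exact Or.inr ⟨Dvd.dvd.mul_left d2 _, Dvd.intro _ rfl⟩
    · rw [h6]; exact Or.inl ⟨Dvd.dvd.mul_left d1 _, Or.inr (Dvd.intro _ rfl)⟩
  have kill : ∀ d : ℕ, 2 ≤ d → d ∣ a → d ∣ b → False := by
    intro d hd hda hdb
    have h3 := Nat.dvd_gcd hda hdb
    rw [hco] at h3
    have := Nat.dvd_one.1 h3
    omega
  rcases key a ha h1 ha' with ⟨a1, a2 | a2⟩ | ⟨a1, a2⟩ <;> rcases key b hb h2 hb' with ⟨b1, b2 | b2⟩ | ⟨b1, b2⟩
  · exact kill _ (by omega) a1 b1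
  · exact kill _ (by omega) a1 b1
  · exact kill _ (by omega) a2 b1
  · exact kill _ (by omega) a1 b1
  · exact kill _ (by omega) a1 b1
  · exact kill _ (by omega) a2 b2
  · exact kill _ (by omega) a1 b2
  · exact kill _ (by omega) a2 b2
  · exact kill _ (by omega) a1 b1

theorem coprime_of_two {A B : ℕ} (hA : ¬ 2 ∣ A)
    (h : ∀ t : ℕ, t.Prime → ((A : ℕ) : ZMod t) = 0 → ((B : ℕ) : ZMod t) = 0 → (2 : ZMod t) = 0) : Nat.Coprime A B := by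
  refine Nat.coprime_of_dvd fun t ht h1 h2 => ?_
  have h3 := h t ht ((ZMod.natCast_eq_zero_iff _ _).2 h1) ((ZMod.natCast_eq_zero_iff _ _).2 h2)
  have h4 : t ∣ 2 := (ZMod.natCast_eq_zero_iff 2 t).1 (by exact_mod_cast h3)
  have h5 := (Nat.prime_dvd_prime_iff_eq ht Nat.prime_two).1 h4
  subst h5
  exact hA h1

section

variable {w A B C : ℕ}

theorem odd20 (hA : (A : ℤ) = 1 - (w : ℤ) ^ 2 + (w : ℤ) ^ 4 - (w : ℤ) ^ 6 + (w : ℤ) ^ 8) : ¬ 2 ∣ A := by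
  intro h
  have h1 := H129.RealT.zmod_of_dvd hA h
  push_cast at h1
  revert h1
  generalize (w : ZMod 2) = x
  revert x
  decide

theorem odd24 (hA : (A : ℤ) = 1 - (w : ℤ) ^ 4 + (w : ℤ) ^ 8) : ¬ 2 ∣ A := by
  intro h
  have h1 := H129.RealT.zmod_of_dvd hA h
  push_cast at h1
  revert h1
  generalize (w : ZMod 2) = x
  revert x
  decide

theorem cast_zmod {t : ℕ} {z : ℤ} (hA : (A : ℤ) = z) (h : ((A : ℕ) : ZMod t) = 0) : ((z : ℤ) : ZMod t) = 0 := by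
  rw [← hA]
  exact_mod_cast h

theorem co_20_24 (hA : (A : ℤ) = 1 - (w : ℤ) ^ 2 + (w : ℤ) ^ 4 - (w : ℤ) ^ 6 + (w : ℤ) ^ 8)
    (hB : (B : ℤ) = 1 - (w : ℤ) ^ 4 + (w : ℤ) ^ 8) : Nat.Coprime A B := by
  refine coprime_of_two (odd20 hA) fun t _ h1 h2 => ?_
  have h3 := cast_zmod hA h1
  have h4 := cast_zmod hB h2
  push_cast at h3 h4
  generalize (w : ZMod t) = x at h3 h4
  have e1 : x ^ 10 = -1 := by linear_combination (x ^ 2 + 1) * h3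
  have e2 : x ^ 12 = -1 := by linear_combination (x ^ 4 + 1) * h4
  have e3 : x ^ 2 = 1 := by linear_combination x ^ 2 * e1 - e2
  have e4 : x ^ 10 = 1 := by
    calc x ^ 10 = (x ^ 2) ^ 5 := by ring
      _ = 1 := by rw [e3, one_pow]
  linear_combination e1 - e4

theorem co_20_30 (hA : (A : ℤ) = 1 - (w : ℤ) ^ 2 + (w : ℤ) ^ 4 - (w : ℤ) ^ 6 + (w : ℤ) ^ 8)
    (hB : (B : ℤ) = 1 + (w : ℤ) - (w : ℤ) ^ 3 - (w : ℤ) ^ 4 - (w : ℤ) ^ 5 + (w : ℤ) ^ 7 + (w : ℤ) ^ 8) :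
    Nat.Coprime A B := by
  refine coprime_of_two (odd20 hA) fun t _ h1 h2 => ?_
  have h3 := cast_zmod hA h1
  have h4 := cast_zmod hB h2
  push_cast at h3 h4
  generalize (w : ZMod t) = x at h3 h4
  have e1 : x ^ 10 = -1 := by linear_combination (x ^ 2 + 1) * h3
  have e2 : x ^ 15 = -1 := by linear_combination (x ^ 7 - x ^ 6 + x ^ 5 + x ^ 2 - x + 1) * h4
  have e3 : x ^ 5 = 1 := by linear_combination x ^ 5 * e1 - e2
  have e4 : x ^ 10 = 1 := by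
    calc x ^ 10 = (x ^ 5) ^ 2 := by ring
      _ = 1 := by rw [e3, one_pow]
  linear_combination e1 - e4

theorem co_24_30 (hA : (A : ℤ) = 1 - (w : ℤ) ^ 4 + (w : ℤ) ^ 8)
    (hB : (B : ℤ) = 1 + (w : ℤ) - (w : ℤ) ^ 3 - (w : ℤ) ^ 4 - (w : ℤ) ^ 5 + (w : ℤ) ^ 7 + (w : ℤ) ^ 8) :
    Nat.Coprime A B := by
  refine coprime_of_two (odd24 hA) fun t _ h1 h2 => ?_
  have h3 := cast_zmod hA h1
  have h4 := cast_zmod hB h2
  push_cast at h3 h4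
  generalize (w : ZMod t) = x at h3 h4
  have e1 : x ^ 12 = -1 := by linear_combination (x ^ 4 + 1) * h3
  have e2 : x ^ 15 = -1 := by linear_combination (x ^ 7 - x ^ 6 + x ^ 5 + x ^ 2 - x + 1) * h4
  have e3 : x ^ 3 = 1 := by linear_combination x ^ 3 * e1 - e2
  have e4 : x ^ 12 = 1 := by
    calc x ^ 12 = (x ^ 3) ^ 4 := by ring
      _ = 1 := by rw [e3, one_pow]
  linear_combination e1 - e4

end

/-! ### `E₇` -/

variable {p q : ℕ} {F : Type u} [Field F] [Fintype F]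

theorem exists_of_exact {G : Type*} [Group G] {N : ℕ} (h : CycExact G N) : ∃ x : G, orderOf x = N := by
  obtain ⟨T, hc, hN, -⟩ := h
  obtain ⟨t, ht⟩ := hc.exists_generator
  exact ⟨t, by rw [Subgroup.orderOf_coe, ← hN]; exact orderOf_eq_card_of_forall_mem_zpowers ht⟩

theorem row_E7 (h : Sit p q ↥(Lie.chevE7.group F)) : False := by
  have : Finite ↥(Lie.chevE7.group F) := inferInstance
  obtain ⟨s, hs, hsn, hs13, hsd⟩ := h.exists_prime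
  have hnn := h.not_near hs hsn
  obtain ⟨u, hu⟩ : ∃ u, Fintype.card F = u := ⟨_, rfl⟩
  have hcu : Nat.card F = u := by rw [Nat.card_eq_fintype_card, hu]
  have hu2 : 2 ≤ u := by rw [← hu]; exact Fintype.one_lt_card
  rcases H378.ExcNear.near_E7 F hs hsd with h1 | ⟨h3, h1⟩
  · exact hnn h1
  rw [hcu] at h3 h1
  have hmod := mm_mod h.par
  obtain ⟨N7, hN7⟩ : ∃ N : ℕ, N = 1 + u + u ^ 2 + u ^ 3 + u ^ 4 + u ^ 5 + u ^ 6 := ⟨_, rfl⟩
  obtain ⟨N9, hN9⟩ : ∃ N : ℕ, N = 1 + u ^ 3 + u ^ 6 := ⟨_, rfl⟩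
  have hx7 : CycExact ↥(Lie.chevE7.group F) N7 := exact_E7_7 hu h3 (by rw [hN7]; push_cast; ring)
  have hx9 : CycExact ↥(Lie.chevE7.group F) N9 := exact_E7_9 hu h3 (by rw [hN9]; push_cast; ring)
  rcases h1 with h1 | h1
  · have hd := dvd7 hs h1
    have hd' : s ∣ N7 := by
      rw [← Int.natCast_dvd_natCast, hN7]
      rw [pv7] at hd
      convert hd using 1
      push_cast
      ring
    have he := h.exact hx7 hs hd' hsn
    interval_cases u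
    · omega
    · exact ne_1093 h.par.hq (by rw [← he, hN7]; norm_num)
  · have hd := dvd9 hs h1
    have hd' : s ∣ N9 := by
      rw [← Int.natCast_dvd_natCast, hN9]
      rw [pv9] at hd
      convert hd using 1
      push_cast
      ring
    have he := h.exact hx9 hs hd' hsn
    interval_cases u
    · have hq3 := eq_three h.par.hq (by rw [← he, hN9]; norm_num)
      have := h.par.q5
      omega
    · exact ne_757 h.par.hq (by rw [← he, hN9]; norm_num)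

/-! ### `E₈` -/

theorem torus_E8_20 {w : ℕ} (hq : Fintype.card F = w) {N : ℕ}
    (hN : (N : ℤ) = 1 - (w : ℤ) ^ 2 + (w : ℤ) ^ 4 - (w : ℤ) ^ 6 + (w : ℤ) ^ 8) :
    ∃ T : Subgroup ↥(chevE8.group F), IsCyclic ↥T ∧ Nat.card ↥T = N ∧
      ∀ r : ℕ, r.Prime → r ∣ N → r ≠ 5 → ∀ y ∈ T, orderOf y = r → Subgroup.centralizer {y} ≤ T := by
  have := finite_W8
  obtain ⟨T, h1, h2, h3, h4, -⟩ := UntwT.untw_T typeE8 CoxeterMatrix.E₈.toCoxeterSystem (by norm_num) hq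
    TorusChar.invC_E8 one_ne_zero DataE8b.hA DataE8b.chainOK DataE8b.cycOK DataE8b.rootOK
    (by rw [DataE8b.fN_eq, hN])
    (UntwData.coprime_of_eq (a := -(w : ℤ) + (w : ℤ) ^ 3 - (w : ℤ) ^ 5 + (w : ℤ) ^ 7) (by rw [hN]; ring)) (d := 1)
    (Or.inl rfl)
  exact ⟨T, h1, Nat.dvd_antisymm h2 (by rwa [one_mul] at h3), fun r hr hrN h5 =>
    h4 r hr (good_E8_20 hN hr hrN h5).1 (good_E8_20 hN hr hrN h5).2⟩

theorem nn15 (v : ℕ) : ∃ N : ℕ, (N : ℤ) = 1 - ((v + 2 : ℕ) : ℤ) + ((v + 2 : ℕ) : ℤ) ^ 3 - ((v + 2 : ℕ) : ℤ) ^ 4 +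
    ((v + 2 : ℕ) : ℤ) ^ 5 - ((v + 2 : ℕ) : ℤ) ^ 7 + ((v + 2 : ℕ) : ℤ) ^ 8 := by
  refine ⟨_, Int.toNat_of_nonneg ?_⟩
  push_cast
  ring_nf
  positivity

theorem nn20 (v : ℕ) : ∃ N : ℕ, (N : ℤ) = 1 - ((v + 2 : ℕ) : ℤ) ^ 2 + ((v + 2 : ℕ) : ℤ) ^ 4 - ((v + 2 : ℕ) : ℤ) ^ 6 +
    ((v + 2 : ℕ) : ℤ) ^ 8 := by
  refine ⟨_, Int.toNat_of_nonneg ?_⟩
  push_cast
  ring_nf
  positivity

theorem nn24 (v : ℕ) : ∃ N : ℕ, (N : ℤ) = 1 - ((v + 2 : ℕ) : ℤ) ^ 4 + ((v + 2 : ℕ) : ℤ) ^ 8 := by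
  refine ⟨_, Int.toNat_of_nonneg ?_⟩
  push_cast
  ring_nf
  positivity

theorem nn30 (v : ℕ) : ∃ N : ℕ, (N : ℤ) = 1 + ((v + 2 : ℕ) : ℤ) - ((v + 2 : ℕ) : ℤ) ^ 3 - ((v + 2 : ℕ) : ℤ) ^ 4 -
    ((v + 2 : ℕ) : ℤ) ^ 5 + ((v + 2 : ℕ) : ℤ) ^ 7 + ((v + 2 : ℕ) : ℤ) ^ 8 := by
  refine ⟨_, Int.toNat_of_nonneg ?_⟩
  push_cast
  ring_nf
  positivity

section

variable {v N15 N20 N24 N30 : ℕ}

theorem ge15 (hN15 : (N15 : ℤ) = 1 - ((v + 2 : ℕ) : ℤ) + ((v + 2 : ℕ) : ℤ) ^ 3 - ((v + 2 : ℕ) : ℤ) ^ 4 +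
    ((v + 2 : ℕ) : ℤ) ^ 5 - ((v + 2 : ℕ) : ℤ) ^ 7 + ((v + 2 : ℕ) : ℤ) ^ 8) : 151 ≤ N15 := by
  zify
  rw [hN15, ← sub_nonneg]
  clear hN15
  push_cast
  ring_nf
  positivity

theorem lt1520 (hN15 : (N15 : ℤ) = 1 - ((v + 2 : ℕ) : ℤ) + ((v + 2 : ℕ) : ℤ) ^ 3 - ((v + 2 : ℕ) : ℤ) ^ 4 +
    ((v + 2 : ℕ) : ℤ) ^ 5 - ((v + 2 : ℕ) : ℤ) ^ 7 + ((v + 2 : ℕ) : ℤ) ^ 8)
    (hN20 : (N20 : ℤ) = 1 - ((v + 2 : ℕ) : ℤ) ^ 2 + ((v + 2 : ℕ) : ℤ) ^ 4 - ((v + 2 : ℕ) : ℤ) ^ 6 +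
    ((v + 2 : ℕ) : ℤ) ^ 8) : N15 < N20 := by
  zify
  rw [hN15, hN20, ← sub_pos]
  clear hN15 hN20
  push_cast
  ring_nf
  positivity

theorem lt2024 (hN20 : (N20 : ℤ) = 1 - ((v + 2 : ℕ) : ℤ) ^ 2 + ((v + 2 : ℕ) : ℤ) ^ 4 - ((v + 2 : ℕ) : ℤ) ^ 6 +
    ((v + 2 : ℕ) : ℤ) ^ 8) (hN24 : (N24 : ℤ) = 1 - ((v + 2 : ℕ) : ℤ) ^ 4 + ((v + 2 : ℕ) : ℤ) ^ 8) : N20 < N24 := by
  zify
  rw [hN20, hN24, ← sub_pos]
  clear hN20 hN24
  push_cast
  ring_nf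
  positivity

theorem le2420 (hN20 : (N20 : ℤ) = 1 - ((v + 2 : ℕ) : ℤ) ^ 2 + ((v + 2 : ℕ) : ℤ) ^ 4 - ((v + 2 : ℕ) : ℤ) ^ 6 +
    ((v + 2 : ℕ) : ℤ) ^ 8) (hN24 : (N24 : ℤ) = 1 - ((v + 2 : ℕ) : ℤ) ^ 4 + ((v + 2 : ℕ) : ℤ) ^ 8) :
    5 * N24 ≤ 7 * N20 := by
  zify
  rw [hN20, hN24, ← sub_nonneg]
  clear hN20 hN24
  push_cast
  ring_nf
  positivity

theorem lt2430 (hN24 : (N24 : ℤ) = 1 - ((v + 2 : ℕ) : ℤ) ^ 4 + ((v + 2 : ℕ) : ℤ) ^ 8)
    (hN30 : (N30 : ℤ) = 1 + ((v + 2 : ℕ) : ℤ) - ((v + 2 : ℕ) : ℤ) ^ 3 - ((v + 2 : ℕ) : ℤ) ^ 4 -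
    ((v + 2 : ℕ) : ℤ) ^ 5 + ((v + 2 : ℕ) : ℤ) ^ 7 + ((v + 2 : ℕ) : ℤ) ^ 8) : N24 < N30 := by
  zify
  rw [hN24, hN30, ← sub_pos]
  clear hN24 hN30
  push_cast
  ring_nf
  positivity

theorem le3020 (hv : 2 ≤ v) (hN20 : (N20 : ℤ) = 1 - ((v + 2 : ℕ) : ℤ) ^ 2 + ((v + 2 : ℕ) : ℤ) ^ 4 -
    ((v + 2 : ℕ) : ℤ) ^ 6 + ((v + 2 : ℕ) : ℤ) ^ 8)
    (hN30 : (N30 : ℤ) = 1 + ((v + 2 : ℕ) : ℤ) - ((v + 2 : ℕ) : ℤ) ^ 3 - ((v + 2 : ℕ) : ℤ) ^ 4 -
    ((v + 2 : ℕ) : ℤ) ^ 5 + ((v + 2 : ℕ) : ℤ) ^ 7 + ((v + 2 : ℕ) : ℤ) ^ 8) : 5 * N30 ≤ 7 * N20 := by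
  obtain ⟨y, rfl⟩ : ∃ y, v = y + 2 := ⟨v - 2, by omega⟩
  zify
  rw [hN20, hN30, ← sub_nonneg]
  clear hN20 hN30
  push_cast
  ring_nf
  positivity

end

theorem row_E8 (h : Sit p q ↥(Lie.chevE8.group F)) : False := by
  have : Finite ↥(Lie.chevE8.group F) := inferInstance
  obtain ⟨s, hs, hsn, hs13, hsd⟩ := h.exists_prime
  have hnn := h.not_near hs hsn
  obtain ⟨u, hu⟩ : ∃ u, Fintype.card F = u := ⟨_, rfl⟩
  have hcu : Nat.card F = u := by rw [Nat.card_eq_fintype_card, hu]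
  have hu2 : 2 ≤ u := by rw [← hu]; exact Fintype.one_lt_card
  obtain ⟨v, rfl⟩ : ∃ v, u = v + 2 := ⟨u - 2, by omega⟩
  have h1 := (H378.ExcNear.near_E8 F hs hsd).resolve_left hnn
  rw [hcu] at h1
  obtain ⟨N15, hN15⟩ := nn15 v
  obtain ⟨N20, hN20⟩ := nn20 v
  obtain ⟨N24, hN24⟩ := nn24 v
  obtain ⟨N30, hN30⟩ := nn30 v
  have l15 := ge15 hN15
  have l1520 := lt1520 hN15 hN20
  have l2024 := lt2024 hN20 hN24
  have l2430 := lt2430 hN24 hN30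
  have l2420 := le2420 hN20 hN24
  -- the element orders
  obtain ⟨T20, hT20c, hT20, hT20'⟩ := torus_E8_20 (F := F) hu hN20
  have x15 : CycExact ↥(chevE8.group F) N15 := exact_E8_15 hu hN15
  have x24 : CycExact ↥(chevE8.group F) N24 := exact_E8_24 hu hN24
  have x30 : CycExact ↥(chevE8.group F) N30 := exact_E8_30 hu hN30
  have o20 : Om p q N20 := by
    obtain ⟨t, ht⟩ := hT20c.exists_generator
    exact h.ord ⟨t, by rw [Subgroup.orderOf_coe, ← hT20]; exact orderOf_eq_card_of_forall_mem_zpowers ht⟩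
  have o24 : Om p q N24 := h.ord (exists_of_exact x24)
  have o30 : Om p q N30 := h.ord (exists_of_exact x30)
  have hP := h.par
  have c1 := co_20_24 hN20 hN24
  have c2 := co_24_30 hN24 hN30
  have c3 := co_20_30 hN20 hN30
  rcases h1 with h1 | h1 | h1 | h1
  · have hd := dvd15 hs h1
    have hd' : s ∣ N15 := by
      rw [← Int.natCast_dvd_natCast, hN15]
      rw [pv15] at hd
      refine hd.trans (dvd_of_eq ?_)
      ring
    have he := h.exact x15 hs hd' hsn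
    clear hN15 hN20 hN24 hN30 x15 x24 x30 hT20' h
    exact two_large hP o20 o24 (by omega) (by omega) (by omega) (by omega) c1
  · have hd := dvd20 hs h1
    have hd' : s ∣ N20 := by
      rw [← Int.natCast_dvd_natCast, hN20]
      rw [pv20] at hd
      refine hd.trans (dvd_of_eq ?_)
      ring
    have he := h.card_eq hT20c hs (by rw [hT20]; exact hd') (hT20' s hs hd' (by omega)) hsn
    rw [hT20] at he
    clear hN15 hN20 hN24 hN30 x15 x24 x30 hT20' h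
    exact two_large hP o24 o30 (by omega) (by omega) (by omega) (by omega) c2
  · have hd := dvd24 hs h1
    have hd' : s ∣ N24 := by
      rw [← Int.natCast_dvd_natCast, hN24]
      rw [pv24] at hd
      refine hd.trans (dvd_of_eq ?_)
      ring
    have he := h.exact x24 hs hd' hsn
    clear hN15 hN20 hN24 hN30 x15 x24 x30 hT20' h
    exact two_large hP o20 o30 (by omega) (by omega) (by omega) (by omega) c3
  · have hd := dvd30 hs h1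
    have hd' : s ∣ N30 := by
      rw [← Int.natCast_dvd_natCast, hN30]
      rw [pv30] at hd
      refine hd.trans (dvd_of_eq ?_)
      ring
    have he := h.exact x30 hs hd' hsn
    rcases Nat.lt_or_ge v 2 with hv | hv
    · obtain rfl | rfl : v = 0 ∨ v = 1 := by omega
      · refine ne_331 h.par.hq ?_
        rw [← he]
        zify
        rw [hN30]
        norm_num
      · refine ne_8401 h.par.hq ?_
        rw [← he]
        zify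
        rw [hN30]
        norm_num
    · have l3020 := le3020 hv hN20 hN30
      clear hN15 hN20 hN24 hN30 x15 x24 x30 hT20' h
      exact two_large hP o20 o24 (by omega) (by omega) (by omega) (by omega) c1

end Cfsg.Agent.R2.Spec.X1.TRf.E78
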